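import Cfsg.Agent.Lib.Known.PSLTwoEleven.Data

/-!
# Kernel checks on the data for `PSL(2,11)`
-/

set_option autoImplicit false

namespace CfsgLib.Known.PSL11

open CfsgLib.Perm.MatrixClosure

/-- The standard involution. -/
def J : M4 := (0, 10, 1, 0)

/-- Determinant one modulo 11. -/
def detOk : M4 → Bool
  | (a, b, c, d) => (a * d + 11 * 11 - b * c % 11) % 11 == 1

/-- The adjugate. -/
def inv4 : M4 → M4
  | (a, b, c, d) => (d, (11 - b) % 11, (11 - c) % 11, a)

/-- Plus or minus one. -/
def isPM (x : M4) : Bool := x == (1, 0, 0, 1) || x == (10, 0, 0, 10)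

/-- The fifth power. -/
def pow5 (x : M4) : M4 := mul4 11 (mul4 11 (mul4 11 (mul4 11 x x) x) x) x

/-- The two generators and groups. -/
def gen : Bool → M4 := fun j => cond j b1 b0

/-- The two groups. -/
def grp : Bool → List M4 := fun j => cond j L1 L0

/-- The conjugate `g⁻¹ x g`. -/
def conj4 (g x : M4) : M4 := mul4 11 (mul4 11 (inv4 g) x) g

/-- Every candidate generator is certified. -/
def classifyCheck : Bool :=
  (List.range 11).all fun a => (List.range 11).all fun b => (List.range 11).all fun c =>
    let x : M4 := (a, b, c, (12 - a) % 11)
    !(detOk x && isPM (pow5 (mul4 11 J x))) ||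
      certs.any fun t => t.1 == x && detOk t.2.1 && reduced 11 t.2.1 &&
        (grp t.2.2).contains (conj4 t.2.1 J) && (grp t.2.2).contains (conj4 t.2.1 x)

/-- No element takes the generators of group 0 into group 1. -/
def separateCheck : Bool :=
  (List.range 11).all fun a => (List.range 11).all fun b => (List.range 11).all fun c =>
    (List.range 11).all fun d =>
      let g : M4 := (a, b, c, d)
      !(detOk g) || !((grp true).contains (conj4 g J)) || !((grp true).contains (conj4 g b0))

/-- Generators, lists, orders and a witness against normality. -/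
def groupCheck (j : Bool) : Bool :=
  closedList 11 [J, gen j] (grp j) && (grp j).length == 120 && detOk (gen j) &&
    (grp j).contains (10, 0, 0, 10) && isPM (mul4 11 (mul4 11 (gen j) (gen j)) (gen j)) &&
    !(isPM (gen j)) && isPM (pow5 (mul4 11 J (gen j))) && !(isPM (mul4 11 J (gen j))) &&
    !((grp j).contains (conj4 (1, 1, 0, 1) J))

set_option maxRecDepth 100000 in
theorem groupCheck_eq : ∀ j, groupCheck j = true := by decide +kernel

set_option maxRecDepth 100000 in
theorem classifyCheck_eq : classifyCheck = true := by decide +kernel

set_option maxRecDepth 100000 in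
theorem separateCheck_eq : separateCheck = true := by decide +kernel

end CfsgLib.Known.PSL11
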