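import Cfsg.Agent.Lib.Perm.MatrixClosure

/-!
# Data for the two classes of icosahedral subgroups of `PSL(2,11)`

Lists of the matrices of two subgroups of order 120 of `SL(2,11)`, and for each generating
matrix a conjugating matrix into one of them.
-/

set_option autoImplicit false

namespace CfsgLib.Known.PSL11

open CfsgLib.Perm.MatrixClosure

/-- Generator 0. -/
def b0 : M4 := (0, 2, 5, 1)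

/-- Elements of group 0, each after the ones used to produce it. -/
def L0 : List M4 := [
  (8, 10, 10, 3), (5, 9, 2, 6), (4, 1, 5, 7), (10, 3, 3, 1), (1, 8, 8, 10), (2, 5, 5, 2),
  (10, 4, 4, 5), (2, 6, 6, 2), (5, 7, 7, 10), (3, 1, 1, 8), (6, 2, 9, 5), (7, 10, 6, 4),
  (5, 2, 9, 6), (4, 5, 1, 7), (10, 7, 6, 1), (1, 2, 1, 3), (2, 9, 8, 9), (7, 1, 1, 5),
  (9, 6, 6, 9), (1, 7, 7, 6), (9, 5, 5, 9), (6, 4, 4, 1), (8, 9, 9, 2), (3, 2, 2, 9),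
  (4, 10, 10, 6), (9, 1, 8, 1), (2, 2, 2, 8), (6, 1, 1, 4), (1, 3, 10, 9), (8, 2, 1, 10),
  (1, 5, 4, 10), (6, 9, 2, 5), (7, 6, 10, 4), (2, 8, 9, 9), (9, 3, 2, 2), (1, 4, 5, 10),
  (10, 9, 10, 8), (9, 2, 3, 2), (10, 6, 7, 1), (8, 1, 2, 10), (9, 8, 1, 1), (4, 4, 3, 6),
  (3, 7, 6, 7), (1, 10, 3, 9), (4, 7, 6, 8), (2, 10, 3, 10), (9, 9, 9, 3), (5, 10, 10, 7),
  (10, 8, 1, 2), (6, 7, 8, 4), (5, 4, 3, 7), (3, 9, 10, 1), (7, 4, 5, 3), (4, 3, 4, 6),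
  (1, 1, 2, 3), (3, 6, 7, 7), (2, 4, 7, 9), (6, 3, 6, 5), (6, 8, 7, 4), (3, 10, 9, 1),
  (4, 6, 7, 8), (7, 5, 4, 3), (2, 3, 10, 10), (7, 7, 8, 5), (8, 4, 5, 4), (10, 1, 8, 2),
  (5, 3, 4, 7), (8, 7, 3, 0), (7, 2, 2, 7), (8, 6, 6, 6), (0, 3, 7, 3), (7, 9, 9, 7),
  (6, 5, 5, 8), (8, 3, 7, 0), (3, 0, 3, 4), (7, 8, 7, 5), (10, 10, 9, 8), (8, 5, 4, 4),
  (7, 3, 0, 8), (4, 8, 0, 3), (9, 7, 4, 2), (5, 8, 5, 6), (8, 0, 8, 7), (2, 7, 4, 9),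
  (6, 6, 3, 5), (8, 8, 0, 7), (0, 6, 9, 10), (7, 0, 3, 8), (3, 4, 8, 0), (4, 9, 9, 4),
  (3, 5, 5, 5), (0, 8, 4, 8), (4, 2, 2, 4), (5, 6, 6, 3), (3, 8, 4, 0), (5, 0, 1, 9),
  (0, 7, 3, 3), (9, 10, 0, 5), (1, 6, 9, 0), (9, 4, 7, 2), (5, 5, 8, 6), (3, 3, 0, 4),
  (0, 5, 2, 1), (4, 0, 8, 3), (1, 9, 6, 0), (5, 1, 0, 9), (9, 0, 10, 5), (6, 0, 10, 2),
  (0, 4, 8, 8), (2, 1, 0, 6), (10, 5, 2, 0), (0, 9, 6, 10), (0, 1, 10, 0), (10, 2, 5, 0),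
  (6, 10, 0, 2), (2, 0, 1, 6), (10, 0, 0, 10), (0, 2, 5, 1), (0, 10, 1, 0), (1, 0, 0, 1)]

/-- Generator 1. -/
def b1 : M4 := (0, 3, 7, 1)

/-- Elements of group 1, each after the ones used to produce it. -/
def L1 : List M4 := [
  (4, 4, 4, 7), (1, 1, 9, 10), (5, 8, 5, 6), (4, 7, 7, 7), (7, 4, 4, 4), (10, 1, 1, 9),
  (3, 5, 5, 5), (9, 10, 10, 10), (5, 6, 6, 3), (2, 9, 9, 8), (3, 8, 8, 7), (7, 7, 7, 4),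
  (10, 10, 2, 1), (6, 3, 6, 5), (1, 9, 1, 10), (5, 5, 8, 6), (2, 2, 3, 9), (3, 3, 4, 8),
  (1, 2, 3, 7), (9, 8, 9, 2), (8, 7, 8, 3), (1, 10, 10, 2), (8, 6, 6, 6), (2, 1, 1, 1),
  (6, 5, 5, 8), (9, 2, 2, 3), (8, 3, 3, 4), (9, 1, 4, 3), (3, 9, 9, 9), (4, 8, 8, 8),
  (3, 7, 10, 9), (10, 5, 6, 2), (4, 2, 3, 10), (6, 9, 10, 6), (10, 2, 10, 1), (6, 6, 3, 5),
  (9, 9, 8, 2), (8, 8, 7, 3), (10, 9, 8, 4), (2, 3, 2, 9), (3, 4, 3, 8), (4, 3, 2, 10),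
  (6, 10, 9, 6), (9, 4, 1, 3), (2, 6, 5, 10), (6, 2, 1, 6), (3, 10, 7, 9), (10, 6, 5, 2),
  (2, 10, 7, 8), (8, 2, 2, 2), (7, 3, 3, 3), (8, 4, 1, 2), (1, 6, 5, 9), (7, 9, 8, 1),
  (5, 2, 1, 5), (9, 6, 5, 1), (1, 3, 2, 7), (5, 10, 9, 5), (2, 4, 0, 6), (3, 6, 2, 8),
  (4, 5, 1, 7), (6, 0, 7, 2), (7, 8, 9, 1), (5, 1, 2, 5), (2, 7, 10, 8), (9, 5, 6, 1),
  (5, 9, 10, 5), (8, 1, 4, 2), (1, 5, 6, 9), (7, 2, 5, 0), (5, 3, 3, 2), (6, 4, 4, 1),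
  (0, 6, 9, 7), (2, 8, 8, 5), (1, 7, 7, 6), (7, 5, 2, 0), (2, 5, 6, 10), (10, 8, 9, 4),
  (6, 1, 2, 6), (9, 7, 0, 5), (8, 5, 9, 3), (7, 6, 10, 4), (5, 0, 4, 9), (3, 2, 6, 8),
  (4, 1, 5, 7), (6, 7, 0, 2), (0, 4, 8, 10), (2, 0, 4, 6), (4, 9, 6, 0), (6, 8, 8, 9),
  (5, 7, 7, 10), (0, 5, 2, 4), (9, 3, 3, 6), (10, 4, 4, 5), (4, 6, 9, 0), (7, 0, 1, 8),
  (0, 2, 5, 4), (8, 10, 0, 7), (1, 4, 8, 0), (8, 9, 5, 3), (7, 10, 6, 4), (5, 4, 0, 9),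
  (0, 7, 3, 1), (9, 0, 7, 5), (1, 8, 4, 0), (7, 1, 0, 8), (8, 0, 10, 7), (4, 0, 10, 3),
  (0, 9, 6, 7), (3, 1, 0, 4), (10, 7, 3, 0), (0, 8, 4, 10), (0, 1, 10, 0), (10, 3, 7, 0),
  (4, 10, 0, 3), (3, 0, 1, 4), (10, 0, 0, 10), (0, 3, 7, 1), (0, 10, 1, 0), (1, 0, 0, 1)]

/-- `(b, g, j)`: `g⁻¹ J g` and `g⁻¹ b g` lie in group `j`. -/
def certs : List (M4 × M4 × Bool) := [
  ((0, 2, 5, 1), (1, 0, 0, 1), false), ((0, 3, 7, 1), (1, 0, 0, 1), true),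
  ((0, 4, 8, 1), (0, 1, 10, 4), false), ((0, 5, 2, 1), (0, 1, 10, 0), false),
  ((0, 6, 9, 1), (0, 1, 10, 4), true), ((0, 7, 3, 1), (0, 1, 10, 0), true),
  ((0, 8, 4, 1), (0, 1, 10, 4), false), ((0, 9, 6, 1), (0, 1, 10, 4), true),
  ((1, 2, 5, 0), (0, 1, 10, 4), true), ((1, 3, 7, 0), (0, 1, 10, 4), false),
  ((1, 4, 8, 0), (0, 1, 10, 0), true), ((1, 5, 2, 0), (0, 1, 10, 4), true),
  ((1, 6, 9, 0), (0, 1, 10, 0), false), ((1, 7, 3, 0), (0, 1, 10, 4), false),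
  ((1, 8, 4, 0), (0, 1, 10, 0), true), ((1, 9, 6, 0), (0, 1, 10, 0), false),
  ((2, 1, 8, 10), (0, 1, 10, 4), true), ((2, 3, 10, 10), (0, 1, 10, 0), false),
  ((2, 8, 1, 10), (0, 1, 10, 4), true), ((2, 10, 3, 10), (0, 1, 10, 0), false),
  ((3, 1, 4, 9), (0, 1, 10, 4), false), ((3, 4, 1, 9), (0, 1, 10, 4), false),
  ((3, 7, 10, 9), (0, 1, 10, 0), true), ((3, 10, 7, 9), (0, 1, 10, 0), true),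
  ((4, 1, 9, 8), (0, 1, 10, 3), false), ((4, 2, 10, 8), (0, 1, 10, 1), true),
  ((4, 9, 1, 8), (0, 1, 10, 3), false), ((4, 10, 2, 8), (0, 1, 10, 1), true),
  ((5, 2, 6, 7), (0, 1, 10, 3), false), ((5, 5, 9, 7), (0, 1, 10, 1), true),
  ((5, 6, 2, 7), (0, 1, 10, 3), false), ((5, 9, 5, 7), (0, 1, 10, 1), true),
  ((7, 2, 6, 5), (0, 1, 10, 1), true), ((7, 5, 9, 5), (0, 1, 10, 3), false),
  ((7, 6, 2, 5), (0, 1, 10, 1), true), ((7, 9, 5, 5), (0, 1, 10, 3), false),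
  ((8, 1, 9, 4), (0, 1, 10, 1), true), ((8, 2, 10, 4), (0, 1, 10, 3), false),
  ((8, 9, 1, 4), (0, 1, 10, 1), true), ((8, 10, 2, 4), (0, 1, 10, 3), false),
  ((9, 1, 4, 3), (0, 1, 10, 0), true), ((9, 4, 1, 3), (0, 1, 10, 0), true),
  ((9, 7, 10, 3), (0, 1, 10, 4), false), ((9, 10, 7, 3), (0, 1, 10, 4), false),
  ((10, 1, 8, 2), (0, 1, 10, 0), false), ((10, 3, 10, 2), (0, 1, 10, 4), true),
  ((10, 8, 1, 2), (0, 1, 10, 0), false), ((10, 10, 3, 2), (0, 1, 10, 4), true)]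

end CfsgLib.Known.PSL11
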